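import Mathlib
import Cfsg.Agent.H649.MonoMin
import Cfsg.Agent.Characters.Counting
import Cfsg.Agent.Blocks.PrincipalKernel
import Cfsg.Agent.Blocks.Central
import Cfsg.Agent.H408.EngStr_m3
import Cfsg.Agent.FastGrp
import Cfsg.Agent.Prune
set_option linter.all false
prune_inst 0x7f00000000000000000000000000000000000000000000000000000000000000000000000000000000000000000000000000000000000000000000000000000000000000000000000000000000000000003ffff7ffffffffffffffffffffffbeffbdefffffff
open scoped Cfsg.Agent.FastGrp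

/-!
# Non-monomial characters of almost simple groups: basic tools (for S4572)

* `index_bound` : a monomial irreducible character of `A`, nontrivial on the simple normal subgroup `S`, has degree
  `|A : H|` with `H` not containing `S`; hence `S` has a proper subgroup of index dividing the degree.
* `exists_sub` : if all non-monomial characters of `A` which are nontrivial on `S` have degree `D`, `r ^ (c + 1) ∣ D` and
  `r ^ (c + 1)` does not divide `|A : S|`, then every `x ≠ 1` of `S` lies in a proper subgroup of `S` whose index is not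
  divisible by `r ^ (c + 1)`.
-/

set_option autoImplicit false
set_option linter.unusedSectionVars false
set_option linter.unusedSimpArgs false

namespace Cfsg.Agent.H902.Mono

open Cfsg Cfsg.Agent.H649.MN Cfsg.Agent.Characters.Core

section ind

variable {A : Type*} [Group A] [Fintype A]

theorem indFun_one (H : Subgroup A) (lam : H →* ℂˣ) :
    indFun H (fun h => (lam h : ℂ)) 1 = (H.index : ℂ) := by
  rw [indFun_apply]
  have h : ∀ x : A, extendByZero H (fun h => (lam h : ℂ)) (x⁻¹ * 1 * x) = 1 := by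
    intro x
    have h1 : x⁻¹ * 1 * x = 1 := by group
    rw [h1, extendByZero_of_mem H _ H.one_mem]
    have : (⟨1, H.one_mem⟩ : H) = 1 := rfl
    rw [this, map_one]
    rfl
  rw [Finset.sum_congr rfl fun x _ => h x, Finset.sum_const, Finset.card_univ, nsmul_eq_mul, mul_one]
  rw [← Nat.card_eq_fintype_card, ← H.index_mul_card]
  have h0 : (Nat.card H : ℂ) ≠ 0 := by exact_mod_cast Nat.card_pos.ne'
  push_cast
  field_simp

theorem exists_conj_mem {H : Subgroup A} {θ : H → ℂ} {x : A} (h : indFun H θ x ≠ 0) :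
    ∃ g : A, g⁻¹ * x * g ∈ H := by
  by_contra hcon
  push Not at hcon
  apply h
  rw [indFun_apply, Finset.sum_eq_zero fun g _ => extendByZero_of_notMem H θ (hcon g), mul_zero]

theorem hom_trivial {S : Type*} [Group S] [IsSimpleGroup S] (hna : ¬ IsMulCommutative S) (g : S →* ℂˣ) (s : S) :
    g s = 1 := by
  rcases (inferInstance : g.ker.Normal).eq_bot_or_eq_top with h | h
  · exfalso
    apply hna
    refine ⟨⟨fun a b => ?_⟩⟩
    have h1 : a * b * (b * a)⁻¹ ∈ g.ker := by
      rw [MonoidHom.mem_ker, map_mul, map_inv, map_mul, map_mul, mul_comm (g b) (g a), mul_inv_cancel]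
    rw [h, Subgroup.mem_bot] at h1
    exact mul_inv_eq_one.1 h1
  · exact (MonoidHom.mem_ker).1 (h ▸ Subgroup.mem_top s)

variable {S : Type*} [Group S] [IsSimpleGroup S] (hna : ¬ IsMulCommutative S) (f : S →* A)

include hna in
/-- The inducing subgroup of a character nontrivial on `S` does not contain `S`. -/
theorem not_le (hN : (f.range).Normal) {H : Subgroup A} {lam : H →* ℂˣ}
    (hnt : ∃ s : S, indFun H (fun h => (lam h : ℂ)) (f s) ≠ indFun H (fun h => (lam h : ℂ)) 1) :
    ¬ f.range ≤ H := by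
  intro hle
  obtain ⟨s, hs⟩ := hnt
  apply hs
  rw [indFun_apply, indFun_apply]
  congr 1
  refine Finset.sum_congr rfl fun x _ => ?_
  have h1 : x⁻¹ * f s * x ∈ f.range := by
    have := hN.conj_mem (f s) ⟨s, rfl⟩ x⁻¹
    simpa using this
  have h2 : x⁻¹ * 1 * x = 1 := by group
  rw [h2, extendByZero_of_mem H _ (hle h1), extendByZero_of_mem H _ H.one_mem]
  have h1' := h1
  obtain ⟨t, ht⟩ := h1'
  have h3 : lam ⟨x⁻¹ * f s * x, hle h1⟩ = 1 := by
    have h4 := hom_trivial hna ((lam.comp (Subgroup.inclusion hle)).comp f.rangeRestrict) t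
    rw [MonoidHom.comp_apply, MonoidHom.comp_apply] at h4
    have h5 : (Subgroup.inclusion hle) (f.rangeRestrict t) = ⟨x⁻¹ * f s * x, hle h1⟩ := by
      apply Subtype.ext
      exact ht
    rwa [h5] at h4
  have h6 : lam ⟨1, H.one_mem⟩ = 1 := map_one lam
  rw [h3, h6]

theorem comap_ne_top {H : Subgroup A} (h : ¬ f.range ≤ H) : H.comap f ≠ ⊤ := by
  intro h1
  apply h
  rintro _ ⟨s, rfl⟩
  have : s ∈ H.comap f := h1 ▸ Subgroup.mem_top s
  exact this

theorem index_comap_dvd (hN : (f.range).Normal) (H : Subgroup A) : (H.comap f).index ∣ H.index := by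
  rw [Subgroup.index_comap]
  exact Cfsg.Agent.H408.Core.relIndex_dvd_of_normal H f.range

include hna in
/-- A monomial irreducible character nontrivial on `S`: `S` has a proper subgroup of index dividing the degree. -/
theorem index_bound (hN : (f.range).Normal) {χ : A → ℂ} (hnt : ∃ s : S, χ (f s) ≠ χ 1) (hm : Mono A χ) :
    ∃ H : Subgroup A, ¬ f.range ≤ H ∧ H.comap f ≠ ⊤ ∧ χ 1 = (H.index : ℂ) ∧ (H.comap f).index ∣ H.index := by
  obtain ⟨H, lam, rfl⟩ := hm
  have h1 := not_le hna f hN hnt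
  exact ⟨H, h1, comap_ne_top f h1, indFun_one H lam, index_comap_dvd f hN H⟩

include hna in
/-- If every proper subgroup of `S` has index larger than `d`, then characters of degree `d` are not monomial. -/
theorem nonMono_of_lt (hN : (f.range).Normal) {χ : A → ℂ} (hχ : IsIrrCharacter A χ)
    (hnt : ∃ s : S, χ (f s) ≠ χ 1) {d : ℕ} (hd : χ 1 = d)
    (hS : ∀ K : Subgroup S, K ≠ ⊤ → ¬ K.index ∣ d) : NonMono f χ := by
  refine ⟨hχ, hnt, fun hm => ?_⟩
  obtain ⟨H, -, h2, h3, h4⟩ := index_bound hna f hN hnt hm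
  have h5 : H.index = d := by
    have : ((H.index : ℕ) : ℂ) = (d : ℂ) := by rw [← h3, hd]
    exact_mod_cast this
  exact hS _ h2 (h5 ▸ h4)

include hna in
theorem exists_sub (hN : (f.range).Normal) {r c D : ℕ} (hr : r.Prime)
    (hc : ¬ r ^ (c + 1) ∣ (f.range).index) (hD : r ^ (c + 1) ∣ D)
    (hEq : ∀ χ : A → ℂ, NonMono f χ → χ 1 = (D : ℂ)) (hf : Function.Injective f) (x : S) (hx : x ≠ 1) :
    ∃ H : Subgroup S, H ≠ ⊤ ∧ x ∈ H ∧ ¬ r ^ (c + 1) ∣ H.index := by
  classical
  by_contra hcon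
  push Not at hcon
  have hfin : Finite (IrrCharacter A) := finite_irr
  have := Fintype.ofFinite (IrrCharacter A)
  let R : ℕ := r ^ (c + 1)
  have hR : (R : ℂ) ≠ 0 := by
    have : 0 < r ^ (c + 1) := pow_pos hr.pos _
    exact_mod_cast this.ne'
  -- the terms
  have key : ∀ χ : IrrCharacter A, (∃ s : S, (χ : A → ℂ) (f s) ≠ (χ : A → ℂ) 1) →
      ∃ a : ℂ, IsIntegral ℤ a ∧ (χ : A → ℂ) 1 * (χ : A → ℂ) (f x) = (R : ℂ) * a := by
    intro χ hnt
    have hint := Cfsg.Agent.Blocks.Central.isIntegral_irr χ.2 (f x)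
    by_cases hm : Mono A (χ : A → ℂ)
    · by_cases h0 : (χ : A → ℂ) (f x) = 0
      · exact ⟨0, isIntegral_zero, by rw [h0]; simp⟩
      · obtain ⟨H, lam, hlam⟩ := hm
        rw [hlam] at h0 hnt
        obtain ⟨g, hg⟩ := exists_conj_mem h0
        have hle := not_le hna f hN hnt
        let K : Subgroup A := H.map (MulAut.conj g).toMonoidHom
        have hK : ¬ f.range ≤ K := by
          intro h1
          apply hle
          intro y hy
          have h2 := h1 (hN.conj_mem y hy g)
          obtain ⟨z, hz, hzy⟩ := h2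
          have h3 : z = y := by
            have h4 : g * z * g⁻¹ = g * y * g⁻¹ := hzy
            exact mul_left_cancel (mul_right_cancel h4)
          rwa [← h3]
        have hxK : x ∈ K.comap f := by
          refine ⟨g⁻¹ * f x * g, hg, ?_⟩
          change g * (g⁻¹ * f x * g) * g⁻¹ = f x
          group
        have h5 := hcon (K.comap f) (comap_ne_top f hK) hxK
        have h6 : K.index = H.index := Subgroup.index_map_equiv H (MulAut.conj g)
        obtain ⟨k, hk⟩ := h5.trans (index_comap_dvd f hN K)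
        rw [h6] at hk
        refine ⟨(k : ℂ) * (χ : A → ℂ) (f x), IsIntegral.mul ?_ hint, ?_⟩
        · exact isIntegral_algebraMap (R := ℤ) (x := (k : ℤ))
        · have h7 : (χ : A → ℂ) 1 = (H.index : ℂ) := by
            rw [hlam]; exact indFun_one H lam
          rw [h7, hk]
          simp only [R]
          push_cast
          ring
    · have h1 := hEq χ ⟨χ.2, hnt, hm⟩
      obtain ⟨k, hk⟩ := hD
      refine ⟨(k : ℂ) * (χ : A → ℂ) (f x), IsIntegral.mul ?_ hint, ?_⟩
      · exact isIntegral_algebraMap (R := ℤ) (x := (k : ℤ))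
      · rw [h1, hk]
        simp only [R]
        push_cast
        ring
  -- the sum
  have hsum := Cfsg.Agent.Characters.Counting.sum_irr_one_mul (G := A) (f x)
  have hx' : f x ≠ 1 := fun h => hx (hf (h.trans (map_one f).symm))
  rw [if_neg hx'] at hsum
  let T : Finset (IrrCharacter A) := Finset.univ.filter
    (fun χ : IrrCharacter A => ∀ n ∈ f.range, (χ : A → ℂ) n = (χ : A → ℂ) 1)
  rw [← Finset.sum_filter_add_sum_filter_not Finset.univ
    (fun χ : IrrCharacter A => ∀ n ∈ f.range, (χ : A → ℂ) n = (χ : A → ℂ) 1)] at hsum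
  have h1 : ∑ χ ∈ T, (χ : A → ℂ) 1 * (χ : A → ℂ) (f x) = ((f.range).index : ℂ) := by
    rw [← Cfsg.Agent.Blocks.PrincipalKernel.sum_sq_degrees f.range]
    push_cast
    refine Finset.sum_congr rfl fun χ hχ => ?_
    have h2 := (Finset.mem_filter.1 hχ).2 (f x) ⟨x, rfl⟩
    rw [h2]
    have h3 : (χ : A → ℂ) 1 = ((charDegree (χ : A → ℂ) : ℕ) : ℂ) := by
      exact Cfsg.Agent.Blocks.Basic.irr_one_eq_charDegree χ.2
    rw [h3]
    ring
  have h2 : ∀ χ : IrrCharacter A, ∃ a : ℂ, IsIntegral ℤ a ∧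
      ((¬ ∀ n ∈ f.range, (χ : A → ℂ) n = (χ : A → ℂ) 1) →
        (χ : A → ℂ) 1 * (χ : A → ℂ) (f x) = (R : ℂ) * a) := by
    intro χ
    by_cases h : ∀ n ∈ f.range, (χ : A → ℂ) n = (χ : A → ℂ) 1
    · exact ⟨0, isIntegral_zero, fun h' => absurd h h'⟩
    · have h' : ∃ s : S, (χ : A → ℂ) (f s) ≠ (χ : A → ℂ) 1 := by
        push Not at h
        obtain ⟨n, ⟨s, rfl⟩, hn⟩ := h
        exact ⟨s, hn⟩
      obtain ⟨a, ha, hb⟩ := key χ h'
      exact ⟨a, ha, fun _ => hb⟩
  choose a ha hb using h2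
  have h3 : ∑ χ ∈ Finset.univ.filter
      (fun χ : IrrCharacter A => ¬ ∀ n ∈ f.range, (χ : A → ℂ) n = (χ : A → ℂ) 1),
      (χ : A → ℂ) 1 * (χ : A → ℂ) (f x) = (R : ℂ) * ∑ χ ∈ Finset.univ.filter
      (fun χ : IrrCharacter A => ¬ ∀ n ∈ f.range, (χ : A → ℂ) n = (χ : A → ℂ) 1), a χ := by
    rw [Finset.mul_sum]
    exact Finset.sum_congr rfl fun χ hχ => hb χ (Finset.mem_filter.1 hχ).2
  have h4 : ((f.range).index : ℂ) + (R : ℂ) * ∑ χ ∈ Finset.univ.filter
      (fun χ : IrrCharacter A => ¬ ∀ n ∈ f.range, (χ : A → ℂ) n = (χ : A → ℂ) 1), a χ = 0 := by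
    rw [← h3, ← h1]
    exact hsum
  set s : ℂ := ∑ χ ∈ Finset.univ.filter
      (fun χ : IrrCharacter A => ¬ ∀ n ∈ f.range, (χ : A → ℂ) n = (χ : A → ℂ) 1), a χ with hs
  have hsint : IsIntegral ℤ s := IsIntegral.sum _ fun χ _ => ha χ
  have h5 : s = algebraMap ℚ ℂ (-((f.range).index : ℚ) / (R : ℚ)) := by
    have h6 : s = -((f.range).index : ℂ) / (R : ℂ) := by
      rw [eq_div_iff hR]
      linear_combination h4
    rw [h6]
    simp
  rw [h5] at hsint
  have h7 : IsIntegral ℤ (-((f.range).index : ℚ) / (R : ℚ)) :=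
    (isIntegral_algebraMap_iff (FaithfulSMul.algebraMap_injective ℚ ℂ)).1 hsint
  obtain ⟨z, hz⟩ := IsIntegrallyClosed.isIntegral_iff.1 h7
  apply hc
  have h8 : ((f.range).index : ℤ) = R * (-z) := by
    have hRq : (R : ℚ) ≠ 0 := by
      have : 0 < r ^ (c + 1) := pow_pos hr.pos _
      exact_mod_cast this.ne'
    have h9 : (z : ℚ) = -((f.range).index : ℚ) / (R : ℚ) := by
      rw [← hz]; rfl
    rw [eq_div_iff hRq] at h9
    have h10 : (((f.range).index : ℤ) : ℚ) = ((R * (-z) : ℤ) : ℚ) := by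
      push_cast
      linarith
    exact_mod_cast h10
  have h9 : ((r ^ (c + 1) : ℕ) : ℤ) ∣ ((f.range).index : ℤ) := ⟨-z, h8⟩
  exact_mod_cast h9

end ind

end Cfsg.Agent.H902.Mono
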