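import Mathlib
import Cfsg.Agent.H902.Enum
import Cfsg.Agent.H902.EntsFast
import Cfsg.Agent.Prune
set_option linter.all false

section
prune_inst 0x7f00000000000000000000000000000000000000000000000000000000000000000000000000000000000000000000000000000000000000000000000000000000000000000000000000000000000000003fffffffffffffffffffffffffffbeffbdffffffff

-- part: H902/SameD
section
set_option linter.all false
open scoped Cfsg.Agent.FastGrp

/-!
# Equal characteristic: the order determines the shape and the field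
-/

set_option autoImplicit false

namespace Cfsg.Agent.H902.Art

open Finset Cfsg.Agent.Lib.Zsigmondy

theorem ne_of_order {p r n : ℕ} (hr : r.Prime) (hn : 1 ≤ n) (ho : orderOf (p : ZMod r) = n) : r ≠ p := by
  rintro rfl
  have : Fact r.Prime := ⟨hr⟩
  have h1 : ((r : ℕ) : ZMod r) = 0 := ZMod.natCast_self r
  rw [h1] at ho
  have h2 : orderOf (0 : ZMod r) = 0 := by
    rw [orderOf_eq_zero_iff']
    intro n hn h5
    rw [zero_pow (by omega)] at h5
    exact zero_ne_one h5
  omega

theorem DM_eq_two {X : Sh} {p f M : ℕ} (h : Real X p f M) (h2 : DM X ≤ 2) : X = .L 2 := by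
  have hok := h.ok
  cases X with
  | L n =>
    have hn : 2 ≤ n := hok.1
    have : n ≤ 2 := h2
    have : n = 2 := by omega
    rw [this]
  | C n => have hn : 2 ≤ n := hok.1; have : 2 * n ≤ 2 := h2; omega
  | U n =>
    have hn : 3 ≤ n := hok.1
    have h3 : (if Even n then 2 * (n - 1) else 2 * n) ≤ 2 := h2
    split_ifs at h3 <;> omega
  | D n => have hn : 4 ≤ n := hok; have : 2 * (n - 1) ≤ 2 := h2; omega
  | DD n => have hn : 4 ≤ n := hok; have : 2 * n ≤ 2 := h2; omega
  | G2 => exact absurd h2 (by decide)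
  | F4 => exact absurd h2 (by decide)
  | E6 => exact absurd h2 (by decide)
  | E7 => exact absurd h2 (by decide)
  | E8 => exact absurd h2 (by decide)
  | TE6 => exact absurd h2 (by decide)
  | TD4 => exact absurd h2 (by decide)
  | Sz => exact absurd h2 (by decide)
  | Ree => exact absurd h2 (by decide)
  | TF4 => exact absurd h2 (by decide)

theorem DM_eq_three {X : Sh} {p f M : ℕ} (h : Real X p f M) (h2 : DM X = 3) : X = .L 3 := by
  have hok := h.ok
  cases X with
  | L n => have : n = 3 := h2; rw [this]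
  | C n => have : 2 * n = 3 := h2; omega
  | U n =>
    have h3 : (if Even n then 2 * (n - 1) else 2 * n) = 3 := h2
    split_ifs at h3 <;> omega
  | D n => have : 2 * (n - 1) = 3 := h2; omega
  | DD n => have : 2 * n = 3 := h2; omega
  | G2 => exact absurd h2 (by decide)
  | F4 => exact absurd h2 (by decide)
  | E6 => exact absurd h2 (by decide)
  | E7 => exact absurd h2 (by decide)
  | E8 => exact absurd h2 (by decide)
  | TE6 => exact absurd h2 (by decide)
  | TD4 => exact absurd h2 (by decide)
  | Sz => exact absurd h2 (by decide)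
  | Ree => exact absurd h2 (by decide)
  | TF4 => exact absurd h2 (by decide)

theorem NN_eq_one {X : Sh} {p f M : ℕ} (h : Real X p f M) (h2 : NN X = 1) : X = .L 2 := by
  apply DM_eq_two h
  have h3 := four_NN h
  have hge := DM_ge h
  have hok := h.ok
  rw [h2] at h3
  -- `DM · kap = 4` with `DM ≥ 2`
  have h4 : DM X ∣ 4 := ⟨kap X, by omega⟩
  have h5 := Nat.le_of_dvd (by norm_num) h4
  by_contra hcon
  have h6 : DM X ≠ 3 := by intro h7; rw [h7] at h4; omega
  have h7 : DM X = 4 := by omega
  have h8 : kap X = 1 := by rw [h7] at h3; omega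
  cases X with
  | L n => have h9 : 2 * (n - 1) = 1 := h8; omega
  | C n => have h9 : 2 * n = 1 := h8; omega
  | U n =>
    have hn : 3 ≤ n := hok.1
    have h9 : (if Even n then n else n - 1) = 1 := h8
    split_ifs at h9 <;> omega
  | D n => have h9 : 2 * n = 1 := h8; omega
  | DD n => have h9 : 2 * (n - 1) = 1 := h8; omega
  | G2 => exact absurd h2 (by decide)
  | F4 => exact absurd h2 (by decide)
  | E6 => exact absurd h2 (by decide)
  | E7 => exact absurd h2 (by decide)
  | E8 => exact absurd h2 (by decide)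
  | TE6 => exact absurd h2 (by decide)
  | TD4 => exact absurd h2 (by decide)
  | Sz => exact absurd h2 (by decide)
  | Ree => exact absurd h2 (by decide)
  | TF4 => exact absurd h2 (by decide)

theorem kap_le {X : Sh} {p f M : ℕ} (h : Real X p f M) : kap X + 2 ≤ 2 * DM X := by
  have hok := h.ok
  cases X with
  | L n => have hn : 2 ≤ n := hok.1; show 2 * (n - 1) + 2 ≤ 2 * n; omega
  | C n => have hn : 2 ≤ n := hok.1; show 2 * n + 2 ≤ 2 * (2 * n); omega
  | U n =>
    have hn : 3 ≤ n := hok.1
    show (if Even n then n else n - 1) + 2 ≤ 2 * (if Even n then 2 * (n - 1) else 2 * n)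
    split_ifs <;> omega
  | D n => have hn : 4 ≤ n := hok; show 2 * n + 2 ≤ 2 * (2 * (n - 1)); omega
  | DD n => have hn : 4 ≤ n := hok; show 2 * (n - 1) + 2 ≤ 2 * (2 * n); omega
  | G2 => decide
  | F4 => decide
  | E6 => decide
  | E7 => decide
  | E8 => decide
  | TE6 => decide
  | TD4 => decide
  | Sz => decide
  | Ree => decide
  | TF4 => decide

theorem bound_DM {X : Sh} {p f M : ℕ} (h : Real X p f M) (h6 : f * DM X = 6) : f * NN X ≤ 21 := by
  have h1 := four_NN h
  have h2 := kap_le h
  have hf := h.hf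
  have h3 : DM X ≤ 6 := by nlinarith
  have h4 : 4 * (f * NN X) = 6 * kap X := by
    calc 4 * (f * NN X) = f * (4 * NN X) := by ring
      _ = f * (DM X * kap X) := by rw [h1]
      _ = (f * DM X) * kap X := by ring
      _ = 6 * kap X := by rw [h6]
  omega

theorem bound_BM {X : Sh} {p f M : ℕ} (h : Real X p f M) (hB : DM X < 2 * BM X) (h6 : f * BM X = 6) :
    f * NN X ≤ 21 := by
  have hA := typA h hB
  have h1 := four_NN h
  have hf := h.hf
  have hlt := BM_lt h
  have hf6 : f ∣ 6 := ⟨BM X, h6.symm⟩
  have hf6' := Nat.le_of_dvd (by norm_num) hf6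
  generalize hD : DM X = D at *
  generalize hk : kap X = k at *
  generalize hd : D - BM X = d at *
  have hBd : BM X = D - d := by omega
  rw [hBd] at h6
  have h4 : 4 * (f * NN X) = f * (D * k) := by rw [← h1]; ring
  cases hA <;> interval_cases f <;> first
    | omega
    | (exfalso; omega)
    | (have : D = 7 := by omega
       subst this; omega)
    | (have : D = 4 := by omega
       subst this; omega)
    | (have : D = 3 := by omega
       subst this; omega)
    | (rename_i n _
       have : n = 2 := by omega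
       subst this; omega)
    | (rename_i n _
       have : n = 3 := by omega
       subst this; omega)
    | (rename_i n _
       have : n = 4 := by omega
       subst this; omega)
    | (rename_i n _
       have : n = 5 := by omega
       subst this; omega)

section main

variable {X Y : Sh} {p f g M : ℕ}

theorem exp_eq (hX : Real X p f M) (hY : Real Y p g M) : f * NN X = g * NN Y := by
  rw [P_prime_exp hX, P_prime_exp hY]

theorem DM_le (hX : Real X p f M) (hY : Real Y p g M) (h3 : 3 ≤ f * DM X) (h6 : ¬ (p = 2 ∧ f * DM X = 6)) :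
    f * DM X ≤ g * DM Y := by
  obtain ⟨r, hr, ho⟩ := exists_prime_orderOf hX.hp.two_le (show 2 ≤ f * DM X by omega) (fun h => by omega) h6
  have hrp : r ≠ p := ne_of_order hr (show 1 ≤ f * DM X by omega) ho
  have hd := hX.dvd_of_order_DM hr ho h3
  have hg := hY.hf
  have hge := DM_ge hY
  have hlt := BM_lt hY
  rcases hY.order_cases hr hrp hd with h | ⟨e, he, heB, h⟩
  · rw [ho] at h
    exact Nat.le_of_dvd (Nat.mul_pos hg (by omega)) h
  · rw [ho] at h
    exact (Nat.le_of_dvd (Nat.mul_pos hg he) h).trans (Nat.mul_le_mul_left _ (by omega))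

theorem BM_le (hX : Real X p f M) (hY : Real Y p g M) (hB : DM X < 2 * BM X) (hDD : f * DM X = g * DM Y)
    (h3 : 3 ≤ f * BM X) (h6 : ¬ (p = 2 ∧ f * BM X = 6)) : f * BM X ≤ g * BM Y := by
  obtain ⟨r, hr, ho⟩ := exists_prime_orderOf hX.hp.two_le (show 2 ≤ f * BM X by omega) (fun h => by omega) h6
  have hrp : r ≠ p := ne_of_order hr (show 1 ≤ f * BM X by omega) ho
  have hd := hX.dvd_of_order_BM hr hB ho h3
  have hf := hX.hf
  have hg := hY.hf
  have hlt := BM_lt hX
  rcases hY.order_cases hr hrp hd with h | ⟨e, he, heB, h⟩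
  · exfalso
    rw [ho, ← hDD] at h
    obtain ⟨c, hc⟩ := Nat.dvd_of_mul_dvd_mul_left hf h
    have hc2 : c < 2 := by
      by_contra hcon
      have : BM X * 2 ≤ BM X * c := Nat.mul_le_mul_left _ (by omega)
      omega
    have hc0 : c ≠ 0 := by rintro rfl; omega
    have hc1 : c = 1 := by omega
    rw [hc1] at hc
    omega
  · rw [ho] at h
    exact (Nat.le_of_dvd (Nat.mul_pos hg he) h).trans (Nat.mul_le_mul_left _ heB)

/-- **Equal characteristic**: the order determines the shape and the field, except for `|L₃(4)| = |L₄(2)| = 20160`. -/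
theorem same_char (hX : Real X p f M) (hY : Real Y p g M) : (X = Y ∧ f = g) ∨ M = 20160 := by
  have hf := hX.hf
  have hg := hY.hf
  have hNX := NN_pos hX
  have hNY := NN_pos hY
  have hN := exp_eq hX hY
  have hgeX := DM_ge hX
  have hgeY := DM_ge hY
  -- small cases in characteristic two
  by_cases hsmall : p = 2 ∧ f * NN X ≤ 21
  · obtain ⟨rfl, hle⟩ := hsmall
    have h1 : f * NN X ∈ List.range' 1 21 := by
      rw [List.mem_range'_1]
      have : 1 ≤ f * NN X := Nat.mul_pos hf hNX
      omega
    have h2 := fin_two _ h1 _ (mem_ents hX rfl) _ (mem_ents hY hN.symm) (by rw [val_eq hX, val_eq hY])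
    rcases h2 with h2 | h2
    · left
      exact ⟨congrArg Prod.fst h2, congrArg Prod.snd h2⟩
    · right
      rw [val_eq hX] at h2
      exact h2
  left
  -- exponent one
  by_cases h1 : f * NN X = 1
  · have h2 : NN X = 1 := by
      rcases Nat.lt_or_ge (NN X) 2 with h | h
      · omega
      · nlinarith
    have h3 : f = 1 := by rw [h2] at h1; omega
    rw [h1] at hN
    have h4 : NN Y = 1 := by
      rcases Nat.lt_or_ge (NN Y) 2 with h | h
      · omega
      · nlinarith
    have h5 : g = 1 := by rw [h4] at hN; omega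
    exact ⟨by rw [NN_eq_one hX h2, NN_eq_one hY h4], by rw [h3, h5]⟩
  have h3X : 3 ≤ f * DM X := by
    by_contra hcon
    have h2 : DM X ≤ 2 := by nlinarith
    have h3 := DM_eq_two hX h2
    have h4 : NN X = 1 := by rw [h3]; rfl
    have h5 : DM X = 2 := by rw [h3]; rfl
    rw [h5] at hcon
    have h6 : f = 1 := by omega
    rw [h4, h6] at h1
    exact h1 rfl
  have h3Y : 3 ≤ g * DM Y := by
    by_contra hcon
    have h2 : DM Y ≤ 2 := by nlinarith
    have h3 := DM_eq_two hY h2
    have h4 : NN Y = 1 := by rw [h3]; rfl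
    have h5 : DM Y = 2 := by rw [h3]; rfl
    rw [h5] at hcon
    have h6 : g = 1 := by omega
    rw [hN, h4, h6] at h1
    exact h1 rfl
  have h6X : ¬ (p = 2 ∧ f * DM X = 6) := fun h => hsmall ⟨h.1, bound_DM hX h.2⟩
  have h6Y : ¬ (p = 2 ∧ g * DM Y = 6) := fun h => hsmall ⟨h.1, by rw [hN]; exact bound_DM hY h.2⟩
  have hD : f * DM X = g * DM Y := le_antisymm (DM_le hX hY h3X h6X) (DM_le hY hX h3Y h6Y)
  -- `kap` agrees
  have hk : kap X = kap Y := by
    have h2 := four_NN hX
    have h3 := four_NN hY
    have h4 : f * DM X * kap X = f * DM X * kap Y := by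
      calc f * DM X * kap X = f * (DM X * kap X) := by ring
        _ = 4 * (f * NN X) := by rw [← h2]; ring
        _ = 4 * (g * NN Y) := by rw [hN]
        _ = g * (DM Y * kap Y) := by rw [← h3]; ring
        _ = g * DM Y * kap Y := by ring
        _ = f * DM X * kap Y := by rw [hD]
    exact Nat.eq_of_mul_eq_mul_left (by omega) h4
  have fin : X = Y → X = Y ∧ f = g := by
    intro h
    refine ⟨h, ?_⟩
    rw [h] at hN
    exact Nat.eq_of_mul_eq_mul_right (by omega) hN
  have small3 : ∀ {Z : Sh} {k : ℕ}, Real Z p k M → DM Z < 2 * BM Z → ¬ 3 ≤ k * BM Z → k = 1 ∧ Z = .L 3 := by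
    intro Z k hZ hB hcon
    have hk := hZ.hf
    have hlt := BM_lt hZ
    have hge := DM_ge hZ
    have h2 : BM Z ≤ 2 := by nlinarith
    have h4 : BM Z = 2 := by omega
    have h5 : DM Z = 3 := by omega
    rw [h4] at hcon
    exact ⟨by omega, DM_eq_three hZ h5⟩
  by_cases hBX : DM X < 2 * BM X
  · by_cases h3B : 3 ≤ f * BM X
    · have h6B : ¬ (p = 2 ∧ f * BM X = 6) := fun h => hsmall ⟨h.1, bound_BM hX hBX h.2⟩
      have hle := BM_le hX hY hBX hD h3B h6B
      have hBY : DM Y < 2 * BM Y := by
        have h5 : g * DM Y < g * (2 * BM Y) := by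
          calc g * DM Y = f * DM X := hD.symm
            _ < f * (2 * BM X) := Nat.mul_lt_mul_of_pos_left hBX hf
            _ = 2 * (f * BM X) := by ring
            _ ≤ 2 * (g * BM Y) := Nat.mul_le_mul_left _ hle
            _ = g * (2 * BM Y) := by ring
        exact Nat.lt_of_mul_lt_mul_left h5
      have h3B' : 3 ≤ g * BM Y := h3B.trans hle
      have h6B' : ¬ (p = 2 ∧ g * BM Y = 6) := fun h => hsmall ⟨h.1, by rw [hN]; exact bound_BM hY hBY h.2⟩
      have hle' := BM_le hY hX hBY hD.symm h3B' h6B'
      have hBB : f * BM X = g * BM Y := le_antisymm hle hle'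
      have hltX := BM_lt hX
      have hltY := BM_lt hY
      have hdd : f * (DM X - BM X) = g * (DM Y - BM Y) := by
        rw [Nat.mul_sub, Nat.mul_sub, hD, hBB]
      have hcr : DM X * (DM Y - BM Y) = DM Y * (DM X - BM X) := by
        have h7 : f * g * (DM X * (DM Y - BM Y)) = f * g * (DM Y * (DM X - BM X)) := by
          calc f * g * (DM X * (DM Y - BM Y)) = (f * DM X) * (g * (DM Y - BM Y)) := by ring
            _ = (g * DM Y) * (f * (DM X - BM X)) := by rw [hD, hdd]
            _ = f * g * (DM Y * (DM X - BM X)) := by ring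
        exact Nat.eq_of_mul_eq_mul_left (Nat.mul_pos hf hg) h7
      rcases pairsA (typA hX hBX) (typA hY hBY) hk hcr with h | h | h
      · exact fin h
      · exact (specA_false hX hY hD h).elim
      · exact (specA_false hY hX hD.symm h).elim
    · obtain ⟨h4, h5⟩ := small3 hX hBX h3B
      subst h4 h5
      have h6 : g * DM Y = 3 := by rw [← hD]; rfl
      have h7 : g = 1 := by
        have : DM Y ∣ 3 := ⟨g, by rw [← h6]; ring⟩
        have h8 := (Nat.dvd_prime Nat.prime_three).1 this
        rcases h8 with h8 | h8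
        · omega
        · rw [h8] at h6; omega
      rw [h7, one_mul] at h6
      exact ⟨(DM_eq_three hY h6).symm, h7.symm⟩
  · by_cases hBY : DM Y < 2 * BM Y
    · by_cases h3B : 3 ≤ g * BM Y
      · exfalso
        have h6B : ¬ (p = 2 ∧ g * BM Y = 6) := fun h => hsmall ⟨h.1, by rw [hN]; exact bound_BM hY hBY h.2⟩
        have hle := BM_le hY hX hBY hD.symm h3B h6B
        apply hBX
        have h5 : f * DM X < f * (2 * BM X) := by
          calc f * DM X = g * DM Y := hD
            _ < g * (2 * BM Y) := Nat.mul_lt_mul_of_pos_left hBY hg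
            _ = 2 * (g * BM Y) := by ring
            _ ≤ 2 * (f * BM X) := Nat.mul_le_mul_left _ hle
            _ = f * (2 * BM X) := by ring
        exact Nat.lt_of_mul_lt_mul_left h5
      · obtain ⟨h4, h5⟩ := small3 hY hBY h3B
        subst h4 h5
        have h6 : f * DM X = 3 := by rw [hD]; rfl
        have h7 : f = 1 := by
          have : DM X ∣ 3 := ⟨f, by rw [← h6]; ring⟩
          have h8 := (Nat.dvd_prime Nat.prime_three).1 this
          rcases h8 with h8 | h8
          · omega
          · rw [h8] at h6; omega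
        rw [h7, one_mul] at h6
        exact ⟨DM_eq_three hX h6, h7⟩
    · rcases pairsB (typB hX hBX) (typB hY hBY) hk with h | h | h
      · exact fin h
      · exact (specB_false hX hY hD h).elim
      · exact (specB_false hY hX hD.symm h).elim

end main

end Cfsg.Agent.H902.Art
end

-- part: H902/Cross
section
set_option linter.all false
open scoped Cfsg.Agent.FastGrp

/-!
# Different characteristics
-/

set_option autoImplicit false

namespace Cfsg.Agent.H902.Art

open Finset

theorem P_sq_mul {q : ℕ} (hq : 2 ≤ q) : q ^ 2 - 1 = (q - 1) * (q + 1) := by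
  obtain ⟨t, rfl⟩ := Nat.exists_eq_add_of_le' (show 1 ≤ q by omega)
  rw [Nat.add_sub_cancel]
  have : (t + 1) ^ 2 = t * (t + 1 + 1) + 1 := by ring
  rw [this, Nat.add_sub_cancel]

theorem num_L2 (q : ℕ) : num (.L 2) q = q ^ 2 - 1 := by
  show ∏ i ∈ range 1, (q ^ (i + 2) - 1) = _
  rw [Finset.prod_range_one]

/-- the equation for `L₂` -/
theorem L2_eq {p f M : ℕ} (h : Real (.L 2) p f M) :
    4 ≤ p ^ f ∧ ((p = 2 ∧ M = p ^ f * ((p ^ f - 1) * (p ^ f + 1))) ∨
      (p ≠ 2 ∧ Odd (p ^ f) ∧ 2 * M = p ^ f * ((p ^ f - 1) * (p ^ f + 1)))) := by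
  have hok : 2 ≤ 2 ∧ (2 = 2 → 4 ≤ p ^ f) := h.ok
  have hq := h.q_ge
  refine ⟨hok.2 rfl, ?_⟩
  have he := h.eq
  rw [num_L2, P_sq_mul hq] at he
  have h1 : NN (.L 2) = 1 := rfl
  rw [h1, pow_one] at he
  have hd : dd (.L 2) (p ^ f) = Nat.gcd 2 (p ^ f - 1) := rfl
  rw [hd] at he
  by_cases hp : p = 2
  · left
    refine ⟨hp, ?_⟩
    subst hp
    have h2 : Nat.gcd 2 (2 ^ f - 1) = 1 := by
      rcases gcd2 (2 ^ f - 1) with h2 | h2
      · exact h2
      · exfalso
        have h3 : 2 ∣ 2 ^ f - 1 := Nat.gcd_eq_left_iff_dvd.1 h2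
        have h4 : 2 ∣ 2 ^ f := dvd_pow_self 2 (by have := h.hf; omega)
        omega
    rw [h2, one_mul] at he
    exact he
  · right
    have hodd : Odd (p ^ f) := (h.hp.odd_of_ne_two hp).pow
    refine ⟨hp, hodd, ?_⟩
    have h2 : Nat.gcd 2 (p ^ f - 1) = 2 := by
      apply Nat.gcd_eq_left
      obtain ⟨k, hk⟩ := hodd
      exact ⟨k, by omega⟩
    rw [h2] at he
    exact he

theorem P_two_two_mul {a : ℕ} (ha : Odd a) : P 2 (2 * a) = 2 := by
  have h4 : 2 * a = 2 ^ 1 * a := by ring
  rw [h4, P_pow_self Nat.prime_two]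
  · norm_num
  · intro h5
    exact (Nat.not_even_iff_odd.2 ha) (even_iff_two_dvd.2 h5)

/-- a proper `r`-part is at most half or a third -/
theorem P_eq_or {r a : ℕ} (hr : r.Prime) (ha : a ≠ 0) : P r a = a ∨ 2 * P r a ≤ a := by
  obtain ⟨c, hc⟩ := P_dvd r a
  have h1 := P_pos (a := a) hr
  rcases Nat.lt_or_ge c 2 with h2 | h2
  · left
    have h3 : c ≠ 0 := by rintro rfl; rw [mul_zero] at hc; exact ha hc
    have h4 : c = 1 := by omega
    rw [h4, mul_one] at hc
    exact hc.symm
  · right
    calc 2 * P r a = P r a * 2 := by ring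
      _ ≤ P r a * c := Nat.mul_le_mul_left _ h2
      _ = a := hc.symm

theorem P_two_eq_or {a : ℕ} (ha : a ≠ 0) : P 2 a = a ∨ 3 * P 2 a ≤ a := by
  obtain ⟨c, hc⟩ := P_dvd 2 a
  have h1 := P_pos (a := a) Nat.prime_two
  have hodd : ¬ 2 ∣ c := by
    intro h
    have h2 : ¬ 2 ^ (a.factorization 2 + 1) ∣ a := Nat.pow_succ_factorization_not_dvd ha Nat.prime_two
    apply h2
    rw [pow_succ]
    conv_rhs => rw [hc]
    exact mul_dvd_mul dvd_rfl h
  rcases Nat.lt_or_ge c 3 with h2 | h2
  · left
    have h4 : c = 1 := by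
      have h3 : c ≠ 0 := by rintro rfl; exact hodd (dvd_zero 2)
      have h5 : c ≠ 2 := by rintro rfl; exact hodd dvd_rfl
      omega
    rw [h4, mul_one] at hc
    exact hc.symm
  · right
    calc 3 * P 2 a = P 2 a * 3 := by ring
      _ ≤ P 2 a * c := Nat.mul_le_mul_left _ h2
      _ = a := hc.symm

theorem crossL2 {Y : Sh} {p q f g M : ℕ} (hX : Real (.L 2) p f M) (hY : Real Y q g M) (hne : p ≠ q) :
    M = 60 ∨ M = 168 := by
  obtain ⟨hQ4, hcase⟩ := L2_eq hX
  set Q := p ^ f with hQ
  have hqp : q ≠ p := fun h => hne h.symm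
  have hq := hY.hp
  have hcub := hY.lt_cube
  have hM0 := hX.M_ne
  have hQ1 : Q - 1 ≠ 0 := by omega
  have hQ2 : Q + 1 ≠ 0 := by omega
  have hqQ : ¬ q ∣ Q := hX.not_dvd_q hq hqp
  rcases hcase with ⟨hp2, hM⟩ | ⟨hp2, hodd, hM⟩
  · -- `Q` even
    left
    subst hp2
    have hP : P q M = P q (Q - 1) * P q (Q + 1) := by
      rw [hM, P_mul (by omega) (Nat.mul_ne_zero hQ1 hQ2), P_eq_one hqQ, one_mul, P_mul hQ1 hQ2]
    set R := P q M with hR
    have hR1 : R = Q + 1 := by
      by_cases h1 : q ∣ Q - 1
      · exfalso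
        have h2 : ¬ q ∣ Q + 1 := by
          intro h3
          have h4 := Nat.dvd_sub h3 h1
          have h5 : Q + 1 - (Q - 1) = 2 := by omega
          rw [h5] at h4
          exact hqp ((Nat.prime_dvd_prime_iff_eq hq Nat.prime_two).1 h4)
        rw [P_eq_one h2, mul_one] at hP
        have h3 : R ≤ Q - 1 := by rw [hP]; exact P_le hQ1
        have h4 : R ^ 3 ≤ (Q - 1) ^ 3 := Nat.pow_le_pow_left h3 3
        have h5 : (Q - 1) ^ 3 ≤ M := by
          rw [hM]
          calc (Q - 1) ^ 3 = (Q - 1) * ((Q - 1) * (Q - 1)) := by ring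
            _ ≤ Q * ((Q - 1) * (Q + 1)) := Nat.mul_le_mul (by omega) (Nat.mul_le_mul_left _ (by omega))
        omega
      · rw [P_eq_one h1, one_mul] at hP
        rcases P_eq_or hq hQ2 with h2 | h2
        · rw [hP, h2]
        · exfalso
          rw [← hP] at h2
          have h3 : R ≤ Q - 1 := by omega
          have h4 : R ^ 3 ≤ (Q - 1) ^ 3 := Nat.pow_le_pow_left h3 3
          have h5 : (Q - 1) ^ 3 ≤ M := by
            rw [hM]
            calc (Q - 1) ^ 3 = (Q - 1) * ((Q - 1) * (Q - 1)) := by ring
              _ ≤ Q * ((Q - 1) * (Q + 1)) := Nat.mul_le_mul (by omega) (Nat.mul_le_mul_left _ (by omega))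
          omega
    obtain ⟨t, ht⟩ := Nat.exists_eq_add_of_le' hQ4
    have hM' : M = (t + 4) * ((t + 3) * (t + 5)) := by rw [hM, ht]; rfl
    by_cases hYL : Y = .L 2
    · subst hYL
      obtain ⟨hR4, hc2⟩ := L2_eq hY
      have hRq : q ^ g = R := by
        have := hY.P_self
        have h1 : NN (.L 2) = 1 := rfl
        rw [h1, pow_one] at this
        exact this.symm
      rcases hc2 with ⟨h2, -⟩ | ⟨-, -, h2⟩
      · exact absurd h2 hqp
      · rw [hRq, hR1, hM'] at h2
        have h3 : Q + 1 - 1 = t + 4 := by (clear * - ht; omega)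
        have h4 : Q + 1 + 1 = t + 6 := by omega
        have h5 : Q + 1 = t + 5 := by omega
        rw [h3, h4, h5] at h2
        have h6 : 2 * (t + 3) = t + 6 := by
          apply Nat.eq_of_mul_eq_mul_left (show 0 < (t + 4) * (t + 5) by (clear * -; positivity))
          calc _ = 2 * ((t + 4) * ((t + 3) * (t + 5))) := by ring
            _ = _ := h2
            _ = _ := by ring
        have h7 : t = 0 := by omega
        rw [hM', h7]
    · have h1 := hY.cube hYL
      rw [← hR, hR1] at h1
      have h5 : Q + 1 = t + 5 := by omega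
      rw [h5, hM'] at h1
      have h2 : ((t + 4) * (t + 3)) ^ 3 ≤ (t + 5) ^ 5 := by
        have h3 : (t + 5) ^ 3 * ((t + 4) * (t + 3)) ^ 3 ≤ (t + 5) ^ 3 * (t + 5) ^ 5 := by
          calc _ = ((t + 4) * ((t + 3) * (t + 5))) ^ 3 := by ring
            _ ≤ (t + 5) ^ 8 := h1
            _ = _ := by ring
        exact Nat.le_of_mul_le_mul_left h3 (by (clear * -; positivity))
      rcases Nat.eq_zero_or_pos t with h6 | h6
      · rw [hM', h6]
      · exfalso
        obtain ⟨s, rfl⟩ := Nat.exists_eq_add_of_le' (show 1 ≤ t from h6)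
        have h7 : (s + 1 + 5) ^ 5 < ((s + 1 + 4) * (s + 1 + 3)) ^ 3 := by
          have e1 : (s + 1 + 5) ^ 5 + (s ^ 6 + 26 * s ^ 5 + 273 * s ^ 4 + 1449 * s ^ 3 + 3900 * s ^ 2 + 4320 * s + 224) =
            ((s + 1 + 4) * (s + 1 + 3)) ^ 3 := by ring
          omega
        omega
  · -- `Q` odd
    obtain ⟨c, hc⟩ := hodd
    have hc2 : 2 ≤ c := by omega
    -- `M = Q · 2 c (c + 1)`, `Q = 2 c + 1`
    have hM2 : M = (2 * c + 1) * (2 * c * (c + 1)) := by
      have h1 : Q - 1 = 2 * c := by omega
      have h2 : Q + 1 = 2 * (c + 1) := by omega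
      rw [h1, h2, hc] at hM
      have h3 : 2 * M = 2 * ((2 * c + 1) * (2 * c * (c + 1))) := by rw [hM]; ring
      omega
    by_cases hq2 : q = 2
    · subst hq2
      set R := P 2 M with hR
      have hodd1 : P 2 (2 * c + 1) = 1 := P_two_of_odd (odd_two_mul_add_one c)
      have hP : R = P 2 (2 * c) * P 2 (c + 1) := by
        rw [hR, hM2, P_mul (by omega) (Nat.mul_ne_zero (by omega) (by omega)), hodd1, one_mul,
          P_mul (by omega) (by omega)]
      -- `R ∈ {Q - 1, Q + 1}` or `3 R ≤ Q + 1`
      have hR3 : (R = 2 * c ∨ R = 2 * (c + 1)) ∨ 3 * R ≤ 2 * (c + 1) := by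
        rcases Nat.even_or_odd c with he | ho
        · have h1 : P 2 (c + 1) = 1 := P_two_of_odd he.add_one
          rw [h1, mul_one] at hP
          rcases P_two_eq_or (a := 2 * c) (by omega) with h2 | h2
          · left; left; rw [hP, h2]
          · right; rw [hP]; omega
        · have h1 : P 2 (2 * c) = 2 := P_two_two_mul ho
          have h2 : R = P 2 (2 * (c + 1)) := by
            rw [hP, h1, P_mul (by norm_num) (by omega)]
            congr 1
            have := P_two_two_mul (a := 1) (by decide)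
            rw [mul_one] at this
            exact this.symm
          rcases P_two_eq_or (a := 2 * (c + 1)) (by omega) with h3 | h3
          · left; right; rw [h2, h3]
          · right; rw [h2]; omega
      rcases hR3 with (hR1 | hR1) | hR1
      · -- `R = 2 c = Q - 1`
        left
        by_cases hYL : Y = .L 2
        · subst hYL
          obtain ⟨hR4, hc2'⟩ := L2_eq hY
          have hRq : 2 ^ g = R := by
            have := hY.P_self
            have h1 : NN (.L 2) = 1 := rfl
            rw [h1, pow_one] at this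
            exact this.symm
          rcases hc2' with ⟨-, h2⟩ | ⟨h2, -, -⟩
          · rw [hRq, hR1, hM2] at h2
            obtain ⟨s, rfl⟩ := Nat.exists_eq_add_of_le' hc2
            have h3 : 2 * (s + 2) - 1 = 2 * s + 3 := by (clear * -; omega)
            rw [h3] at h2
            have h4 : s + 2 + 1 = 2 * s + 3 := by
              apply Nat.eq_of_mul_eq_mul_left (show 0 < (2 * (s + 2) + 1) * (2 * (s + 2)) by (clear * -; positivity))
              calc _ = (2 * (s + 2) + 1) * (2 * (s + 2) * (s + 2 + 1)) := by ring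
                _ = _ := h2
                _ = _ := by ring
            have h5 : s = 0 := by omega
            rw [hM2, h5]
          · exact absurd rfl h2
        · exfalso
          have h1 := hY.cube hYL
          rw [← hR, hR1, hM2] at h1
          have h2 : ((2 * c + 1) * (c + 1)) ^ 3 ≤ (2 * c) ^ 5 := by
            have h3 : (2 * c) ^ 3 * ((2 * c + 1) * (c + 1)) ^ 3 ≤ (2 * c) ^ 3 * (2 * c) ^ 5 := by
              calc _ = ((2 * c + 1) * (2 * c * (c + 1))) ^ 3 := by ring
                _ ≤ (2 * c) ^ 8 := h1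
                _ = _ := by ring
            exact Nat.le_of_mul_le_mul_left h3 (by positivity)
          -- `(2c+1)(c+1) > 2 c²`, `8 c⁶ > 32 c⁵` if `c > 4`; else direct
          rcases Nat.lt_or_ge c 5 with h5 | h5
          · interval_cases c <;> norm_num at h2
          · have h6 : (2 * c ^ 2) ^ 3 ≤ ((2 * c + 1) * (c + 1)) ^ 3 := Nat.pow_le_pow_left (by linarith only []) 3
            have h7 : (2 * c ^ 2) ^ 3 = 8 * c * c ^ 5 := by ring
            have h8 : (2 * c) ^ 5 = 32 * c ^ 5 := by ring
            have h9 : 40 * c ^ 5 ≤ 8 * c * c ^ 5 := Nat.mul_le_mul_right _ (by omega)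
            have h10 : 0 < c ^ 5 := by positivity
            omega
      · -- `R = 2 (c + 1) = Q + 1`
        by_cases hYL : Y = .L 2
        · exfalso
          subst hYL
          obtain ⟨hR4, hc2'⟩ := L2_eq hY
          have hRq : 2 ^ g = R := by
            have := hY.P_self
            have h1 : NN (.L 2) = 1 := rfl
            rw [h1, pow_one] at this
            exact this.symm
          rcases hc2' with ⟨-, h2⟩ | ⟨h2, -, -⟩
          · rw [hRq, hR1, hM2] at h2
            have h3 : 2 * (c + 1) - 1 = 2 * c + 1 := by (clear * -; omega)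
            rw [h3] at h2
            have h4 : c = 2 * c + 3 := by
              apply Nat.eq_of_mul_eq_mul_left (show 0 < (2 * c + 1) * (2 * (c + 1)) by positivity)
              calc _ = (2 * c + 1) * (2 * c * (c + 1)) := by ring
                _ = _ := h2
                _ = _ := by ring
            omega
          · exact absurd rfl h2
        · have h1 := hY.cube hYL
          rw [← hR, hR1, hM2] at h1
          have h2 : ((2 * c + 1) * c) ^ 3 ≤ (2 * (c + 1)) ^ 5 := by
            have h3 : (2 * (c + 1)) ^ 3 * ((2 * c + 1) * c) ^ 3 ≤ (2 * (c + 1)) ^ 3 * (2 * (c + 1)) ^ 5 := by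
              calc _ = ((2 * c + 1) * (2 * c * (c + 1))) ^ 3 := by ring
                _ ≤ (2 * (c + 1)) ^ 8 := h1
                _ = _ := by ring
            exact Nat.le_of_mul_le_mul_left h3 (by positivity)
          have hc7 : c ≤ 6 := by
            by_contra hcon
            obtain ⟨s, rfl⟩ := Nat.exists_eq_add_of_le' (show 7 ≤ c by omega)
            have e1 : (2 * (s + 7 + 1)) ^ 5 + (8 * s ^ 6 + 316 * s ^ 5 + 5026 * s ^ 4 + 40449 * s ^ 3 +
                167225 * s ^ 2 + 303815 * s + 109049) = ((2 * (s + 7) + 1) * (s + 7)) ^ 3 := by ring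
            omega
          -- `R = 2 (c + 1)` is a power of two
          have h3 : ∃ k, 2 * (c + 1) = 2 ^ k := ⟨M.factorization 2, by rw [← hR1]; rfl⟩
          obtain ⟨k, hk⟩ := h3
          have hk4 : k < 4 := by
            by_contra hcon
            have : 2 ^ 4 ≤ 2 ^ k := Nat.pow_le_pow_right (by norm_num) (by omega)
            omega
          interval_cases k
          · omega
          · omega
          · omega
          · right
            have h5 : c = 3 := by omega
            rw [hM2, h5]
      · exfalso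
        have h1 : (3 * R) ^ 3 ≤ (2 * (c + 1)) ^ 3 := Nat.pow_le_pow_left hR1 3
        have h2 : (3 * R) ^ 3 = 27 * R ^ 3 := by ring
        have h3 : (2 * (c + 1)) ^ 3 ≤ 27 * ((2 * c + 1) * (2 * c * (c + 1))) := by
          have h4 : (2 * (c + 1)) ^ 3 = (8 * (c + 1) ^ 2) * (c + 1) := by ring
          have h5 : 27 * ((2 * c + 1) * (2 * c * (c + 1))) = (54 * c * (2 * c + 1)) * (c + 1) := by ring
          rw [h4, h5]
          exact Nat.mul_le_mul_right _ (by nlinarith only [hcub, h1])
        rw [← hM2] at h3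
        omega
    · -- `q` odd
      exfalso
      have hP2 : P q 2 = 1 := P_eq_one fun h => hq2 ((Nat.prime_dvd_prime_iff_eq hq Nat.prime_two).1 h)
      have hqQ' : ¬ q ∣ 2 * c + 1 := by rw [← hc]; exact hqQ
      have hP : P q M = P q c * P q (c + 1) := by
        rw [hM2, P_mul (by omega) (Nat.mul_ne_zero (by omega) (by omega)), P_eq_one hqQ', one_mul,
          P_mul (by omega) (by omega), P_mul (by norm_num) (by omega), hP2, one_mul]
      have h1 : P q M ≤ c + 1 := by
        rw [hP]
        by_cases h2 : q ∣ c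
        · have h3 : ¬ q ∣ c + 1 := by
            intro h4
            have h5 := (Nat.dvd_add_right h2).1 h4
            exact hq.one_lt.ne' (Nat.dvd_one.1 h5)
          rw [P_eq_one h3, mul_one]
          exact (P_le (by omega)).trans (by omega)
        · rw [P_eq_one h2, one_mul]
          exact P_le (by omega)
      have h2 : (P q M) ^ 3 ≤ (c + 1) ^ 3 := Nat.pow_le_pow_left h1 3
      have h3 : (c + 1) ^ 3 ≤ M := by
        rw [hM2]
        have h4 : (c + 1) ^ 3 = ((c + 1) ^ 2) * (c + 1) := by ring
        have h5 : (2 * c + 1) * (2 * c * (c + 1)) = (2 * c * (2 * c + 1)) * (c + 1) := by ring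
        rw [h4, h5]
        exact Nat.mul_le_mul_right _ (by nlinarith only [hc2])
      omega

/-- **Different characteristics.** -/
theorem cross_char {X Y : Sh} {p q f g M : ℕ} (hX : Real X p f M) (hY : Real Y q g M) (hne : p ≠ q) :
    M = 60 ∨ M = 168 ∨ M = 25920 := by
  by_cases hXL : X = .L 2
  · subst hXL
    rcases crossL2 hX hY hne with h | h
    · exact Or.inl h
    · exact Or.inr (Or.inl h)
  by_cases hYL : Y = .L 2
  · subst hYL
    rcases crossL2 hY hX hne.symm with h | h
    · exact Or.inl h
    · exact Or.inr (Or.inl h)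
  right; right
  -- the main case, symmetric
  have key : ∀ {X Y : Sh} {p q f g : ℕ}, Real X p f M → Real Y q g M → p ≠ q → X ≠ .L 2 → P p M < P q M →
      M = 25920 := by
    intro X Y p q f g hX hY hne hXL hlt
    have hX' := hX.P_self
    by_cases h33 : X = .U 3 ∧ p ^ f = 3 ∧ q = 2
    · exfalso
      obtain ⟨rfl, h1, rfl⟩ := h33
      have h2 := val_eq hX
      unfold val at h2
      dsimp only at h2
      rw [h1] at h2
      have h3 : (3 ^ NN (.U 3) * num (.U 3) 3 / dd (.U 3) 3) = 6048 := by decide +kernel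
      rw [h3] at h2
      have h4 : g * NN Y = 5 := by
        have h5 := hY.P_self
        rw [← h2, ← pow_mul] at h5
        have h6 : P 2 6048 = 2 ^ 5 := by
          have : 6048 = 2 ^ 5 * 189 := by norm_num
          rw [this, P_pow_self Nat.prime_two (by norm_num)]
        rw [h6] at h5
        exact (Nat.pow_right_injective (le_refl 2) h5).symm
      have h5 : ∀ b ∈ ents 2 5, val 2 b ≠ 6048 := by decide +kernel
      exact h5 _ (mem_ents hY h4) (by rw [val_eq hY, h2])
    · by_cases h42 : X = .U 4 ∧ p ^ f = 2 ∧ q = 3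
      · obtain ⟨rfl, h1, rfl⟩ := h42
        have h2 := val_eq hX
        unfold val at h2
        dsimp only at h2
        rw [h1] at h2
        have h3 : (2 ^ NN (.U 4) * num (.U 4) 2 / dd (.U 4) 2) = 25920 := by decide +kernel
        rw [h3] at h2
        exact h2.symm
      · exfalso
        have := hX.dom hXL hY.hp hne.symm h33 h42
        rw [← hX'] at this
        omega
  have hneq : P p M ≠ P q M := by
    intro h
    have h1 : p ∣ P p M := by
      rw [hX.P_self, ← pow_mul]
      exact dvd_pow_self p (Nat.mul_ne_zero (by have := hX.hf; omega) (by have := NN_pos hX; omega))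
    rw [h] at h1
    have h2 := hX.hp.dvd_of_dvd_pow h1
    exact hne ((Nat.prime_dvd_prime_iff_eq hX.hp hY.hp).1 h2)
  rcases lt_or_gt_of_ne hneq with h | h
  · exact key hX hY hne hXL h
  · exact key hY hX hne.symm hYL h

end Cfsg.Agent.H902.Art
end

-- part: H902/AltLie
section
set_option linter.all false
open scoped Cfsg.Agent.FastGrp

/-!
# Alternating groups against groups of Lie type
-/

set_option autoImplicit false

namespace Cfsg.Agent.H902.Art

open Finset Cfsg.Agent.H902.Lte

/-- the sum of the digits argument: `(p - 1) v_p(n!) < n` -/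
theorem fact_val {p n : ℕ} (hp : p.Prime) (hn : 1 ≤ n) : (p - 1) * n.factorial.factorization p + 1 ≤ n := by
  have : Fact p.Prime := ⟨hp⟩
  have h1 := sub_one_mul_padicValNat_factorial (p := p) n
  rw [Nat.factorization_def _ hp, h1]
  have h2 : 1 ≤ (Nat.digits p n).sum := by
    by_contra h
    have h3 : (Nat.digits p n).sum = 0 := by omega
    have h4 := Nat.modEq_nine_digits_sum
    have h5 : ∀ x ∈ Nat.digits p n, x = 0 := List.sum_eq_zero_iff.1 h3
    have h6 : Nat.digits p n ≠ [] := Nat.digits_ne_nil_iff_ne_zero.2 (by omega)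
    exact Nat.getLast_digit_ne_zero p (by omega : n ≠ 0) (h5 _ (List.getLast_mem h6))
  have h3 : (Nat.digits p n).sum ≤ n := Nat.digit_sum_le p n
  omega

theorem grow_two : ∀ k : ℕ, 8 ^ (k + 13) ≤ (k + 15).factorial / 2 := by
  intro k
  induction k with
  | zero => decide +kernel
  | succ k ih =>
    have h1 : (k + 1 + 15).factorial = (k + 16) * (k + 15).factorial := by
      rw [show k + 1 + 15 = (k + 15) + 1 by ring, Nat.factorial_succ]
    have h2 : 2 ∣ (k + 15).factorial := Nat.dvd_factorial (by norm_num) (by omega)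
    obtain ⟨c, hc⟩ := h2
    rw [h1, hc]
    rw [hc, Nat.mul_div_cancel_left _ (by norm_num)] at ih
    have h3 : (k + 16) * (2 * c) = 2 * ((k + 16) * c) := by ring
    rw [h3, Nat.mul_div_cancel_left _ (by norm_num)]
    calc 8 ^ (k + 1 + 13) = 8 * 8 ^ (k + 13) := by rw [show k + 1 + 13 = (k + 13) + 1 by ring, pow_succ']
      _ ≤ (k + 16) * c := Nat.mul_le_mul (by omega) ih

theorem grow_odd : ∀ k : ℕ, 27 ^ (k + 10) ≤ ((k + 11).factorial / 2) ^ 2 := by
  intro k
  induction k with
  | zero => decide +kernel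
  | succ k ih =>
    have h1 : (k + 1 + 11).factorial = (k + 12) * (k + 11).factorial := by
      rw [show k + 1 + 11 = (k + 11) + 1 by ring, Nat.factorial_succ]
    have h2 : 2 ∣ (k + 11).factorial := Nat.dvd_factorial (by norm_num) (by omega)
    obtain ⟨c, hc⟩ := h2
    rw [h1, hc]
    rw [hc, Nat.mul_div_cancel_left _ (by norm_num)] at ih
    have h3 : (k + 12) * (2 * c) = 2 * ((k + 12) * c) := by ring
    rw [h3, Nat.mul_div_cancel_left _ (by norm_num)]
    calc 27 ^ (k + 1 + 10) = 27 * 27 ^ (k + 10) := by rw [show k + 1 + 10 = (k + 10) + 1 by ring, pow_succ']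
      _ ≤ (k + 12) ^ 2 * c ^ 2 := Nat.mul_le_mul (by nlinarith) ih
      _ = ((k + 12) * c) ^ 2 := by ring

/-- the finite check -/
theorem fin_alt : ∀ p ∈ [2, 3, 5, 7, 11, 13], ∀ v ∈ List.range' 1 13, ∀ b ∈ ents p v, ∀ n ∈ List.range' 5 10,
    2 * val p b = n.factorial → n = 5 ∨ n = 6 ∨ n = 8 := by
  rw [Cfsg.Agent.H902.EntsFast.ents_eq, Cfsg.Agent.H902.EntsFast.val_eqF]
  decide +kernel

theorem alt_lie {X : Sh} {p f M n : ℕ} (h : Real X p f M) (hn : 5 ≤ n) (hM : 2 * M = n.factorial) :
    M = 60 ∨ M = 360 ∨ M = 20160 := by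
  have hM2 : M = n.factorial / 2 := by rw [← hM, Nat.mul_div_cancel_left _ (by norm_num)]
  have hM0 := h.M_ne
  have hcube := h.lt_cube
  have hself := h.P_self
  have hexp := P_prime_exp h
  have hv := fact_val h.hp (show 1 ≤ n by omega)
  have hfac : n.factorial.factorization p = (Nat.factorization 2) p + M.factorization p := by
    rw [← hM, Nat.factorization_mul (by norm_num) hM0, Finsupp.add_apply]
  have hNN := NN_pos h
  have hv1 : 1 ≤ M.factorization p := by rw [← hexp]; exact Nat.mul_pos h.hf hNN
  have hpM : P p M = p ^ M.factorization p := rfl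
  have hn14 : n ≤ 14 := by
    by_contra hcon
    rcases eq_or_ne p 2 with rfl | hp2
    · obtain ⟨k, rfl⟩ := Nat.exists_eq_add_of_le' (show 15 ≤ n by omega)
      have h1 := grow_two k
      rw [← hM2] at h1
      have h2 : (Nat.factorization 2) 2 = 1 := Nat.Prime.factorization_self Nat.prime_two
      have h3 : M.factorization 2 ≤ k + 13 := by omega
      have h4 : (P 2 M) ^ 3 ≤ 8 ^ (k + 13) := by
        rw [hpM, ← pow_mul, mul_comm, pow_mul]
        exact Nat.pow_le_pow_right (by norm_num) h3
      omega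
    · obtain ⟨k, rfl⟩ := Nat.exists_eq_add_of_le' (show 11 ≤ n by omega)
      have h1 := grow_odd k
      rw [← hM2] at h1
      have hp3 : 3 ≤ p := by have := h.hp.two_le; omega
      have h3 : (p - 1) * M.factorization p ≤ k + 10 := by
        have : M.factorization p ≤ (k + 11).factorial.factorization p := by rw [hfac]; omega
        have h4 := Nat.mul_le_mul_left (p - 1) this
        omega
      have h4 : p ^ 2 ≤ 3 ^ (p - 1) := by
        obtain ⟨j, rfl⟩ := Nat.exists_eq_add_of_le' hp3
        have : ∀ j : ℕ, (j + 3) ^ 2 ≤ 3 ^ (j + 2) := by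
          intro j
          induction j with
          | zero => norm_num
          | succ j ih =>
            have e1 : (j + 1 + 3) ^ 2 + (2 * j ^ 2 + 10 * j + 11) = 3 * (j + 3) ^ 2 := by ring
            have e2 : 3 ^ (j + 1 + 2) = 3 * 3 ^ (j + 2) := by ring
            omega
        exact this j
      have h5 : (P p M) ^ 2 ≤ 3 ^ (k + 10) := by
        rw [hpM]
        calc (p ^ M.factorization p) ^ 2 = (p ^ 2) ^ M.factorization p := by rw [← pow_mul, ← pow_mul, mul_comm]
          _ ≤ (3 ^ (p - 1)) ^ M.factorization p := Nat.pow_le_pow_left h4 _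
          _ = 3 ^ ((p - 1) * M.factorization p) := by rw [← pow_mul]
          _ ≤ 3 ^ (k + 10) := Nat.pow_le_pow_right (by norm_num) h3
      have h6 : M ^ 2 < ((P p M) ^ 3) ^ 2 := Nat.pow_lt_pow_left hcube (by norm_num)
      have h7 : ((P p M) ^ 3) ^ 2 ≤ 27 ^ (k + 10) := by
        calc ((P p M) ^ 3) ^ 2 = ((P p M) ^ 2) ^ 3 := by rw [← pow_mul, ← pow_mul, mul_comm]
          _ ≤ (3 ^ (k + 10)) ^ 3 := Nat.pow_le_pow_left h5 3
          _ = (3 ^ 3) ^ (k + 10) := by rw [← pow_mul, ← pow_mul, mul_comm]
          _ = 27 ^ (k + 10) := by norm_num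
      omega
  have hpn : p ≤ n := by
    have h1 : p ∣ M := Nat.dvd_of_factorization_pos (by omega)
    have h2 : p ∣ n.factorial := by rw [← hM]; exact h1.mul_left 2
    exact (h.hp.dvd_factorial).1 h2
  have hpl : p ∈ [2, 3, 5, 7, 11, 13] := by
    have h14 : p ≤ 14 := by omega
    have := h.hp
    interval_cases p <;> first | decide | (exfalso; revert this; decide)
  have hvn : M.factorization p ≤ 13 := by
    have h1 : M.factorization p ≤ n.factorial.factorization p := by rw [hfac]; omega
    have h2 : 1 ≤ p - 1 := by have := h.hp.two_le; omega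
    have h3 := Nat.mul_le_mul h2 h1
    omega
  have h5 := fin_alt p hpl (M.factorization p) (by rw [List.mem_range'_1]; omega) _ (mem_ents h hexp) n
    (by rw [List.mem_range'_1]; omega) (by rw [val_eq h]; exact hM)
  rcases h5 with rfl | rfl | rfl
  · left; rw [hM2]; decide
  · right; left; rw [hM2]; decide
  · right; right; rw [hM2]; decide

/-- the alternating groups have different orders -/
theorem alt_inj {M n m : ℕ} (hn : 5 ≤ n) (h1 : 2 * M = n.factorial) (h2 : 2 * M = m.factorial) :
    n = m :=
  Nat.factorial_inj (by omega) |>.1 (h1.symm.trans h2)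

end Cfsg.Agent.H902.Art
end
end
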